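import Groth.Agent.Lefpen.H725.CocDef
import Groth.Agent.Fdesc.LocGenTensor
import Groth.Agent.Picfga.LineCocycle
import Groth.Agent.Ega2.IsoCocycle

/-!
# Cartier cocycles on an integral scheme

* `exists_hasCoc`: every invertible module has a Cartier cocycle;
* `hasCoc_loc`, `exists_of_loc`: the families of rational functions which are Cartier cocycles;
* `hasCoc_tensor`, `hasCoc_pow`: cocycles of tensor products and powers;
* `hasCoc_iso`, `hasCoc_change`: cocycles and isomorphisms.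
-/

set_option autoImplicit false
universe u
open CategoryTheory CategoryTheory.Limits AlgebraicGeometry TopologicalSpace Opposite
open Groth.Agent.Fdesc.LocGen Groth.Agent.Lefpen.H725.CocDef

namespace Groth.Agent.Lefpen.H521.CartierCoc

variable {X : Scheme.{u}} [IsIntegral X]

/-- The generic point lies in every nonempty open. -/
theorem gen_mem {U : X.Opens} {x : X} (hx : x ∈ U) : genericPoint X ∈ U :=
  (genericPoint_specializes x).mem_open U.2 hx

theorem ff_ores {U V : X.Opens} (h : V ≤ U) (hη : genericPoint X ∈ V) (g : Γ(X, U)) :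
    ff V hη (ores h g) = ff U (h hη) g :=
  TopCat.Presheaf.germ_res_apply X.presheaf (homOfLE h) (genericPoint X) hη g

theorem ff_injective (U : X.Opens) (hη : genericPoint X ∈ U) : Function.Injective (ff U hη) :=
  germ_injective_of_isIntegral X (genericPoint X) hη

theorem unitAt_ne_zero {x : X} {u : X.functionField} (h : UnitAt x u) : u ≠ 0 := by
  obtain ⟨U, -, hη, g, hg, rfl⟩ := h
  exact (hg.map _).ne_zero

theorem unitAt_mul {x : X} {u v : X.functionField} (h : UnitAt x u) (h' : UnitAt x v) :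
    UnitAt x (u * v) := by
  obtain ⟨U, hx, hη, g, hg, rfl⟩ := h
  obtain ⟨V, hx', hη', g', hg', rfl⟩ := h'
  refine ⟨U ⊓ V, ⟨hx, hx'⟩, ⟨hη, hη'⟩, ores inf_le_left g * ores inf_le_right g',
    (hg.map _).mul (hg'.map _), ?_⟩
  rw [map_mul, ff_ores, ff_ores]

theorem unitAt_inv {x : X} {u : X.functionField} (h : UnitAt x u) : UnitAt x u⁻¹ := by
  obtain ⟨U, hx, hη, g, hg, rfl⟩ := h
  obtain ⟨g, rfl⟩ := hg
  refine ⟨U, hx, hη, (g⁻¹ : Γ(X, U)ˣ), Units.isUnit _, ?_⟩
  refine eq_inv_of_mul_eq_one_left ?_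
  rw [← map_mul, Units.inv_mul, map_one]

theorem unitAt_div {x : X} {u v : X.functionField} (h : UnitAt x u) (h' : UnitAt x v) :
    UnitAt x (u / v) := by
  rw [div_eq_mul_inv]
  exact unitAt_mul h (unitAt_inv h')

theorem unitAt_regAt {x : X} {u : X.functionField} (h : UnitAt x u) : RegAt x u := by
  obtain ⟨U, hx, hη, g, -, hg⟩ := h
  exact ⟨U, hx, hη, g, hg⟩

/-- A rational function regular at all points of `V` is a function on `V`. -/
theorem exists_of_regAt {V : X.Opens} (hη : genericPoint X ∈ V) {u : X.functionField}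
    (h : ∀ z ∈ V, RegAt z u) : ∃ g : Γ(X, V), ff V hη g = u := by
  choose W hzW hηW g hg using fun z : V => h z.1 z.2
  obtain ⟨t, ht⟩ := ores_glue (V := V) (fun z : V => V ⊓ W z) (fun z => inf_le_left)
    (fun x hx => Opens.mem_iSup.mpr ⟨⟨x, hx⟩, ⟨hx, hzW ⟨x, hx⟩⟩⟩)
    (fun z => ores inf_le_right (g z)) (by
      intro i j
      refine ff_injective ((V ⊓ W i) ⊓ (V ⊓ W j)) ⟨⟨hη, hηW i⟩, ⟨hη, hηW j⟩⟩ ?_
      rw [ff_ores, ff_ores, ff_ores, ff_ores, hg, hg])
  refine ⟨t, ?_⟩
  let z : V := ⟨genericPoint X, hη⟩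
  have h1 := congrArg (ff (V ⊓ W z) ⟨hη, hηW z⟩) (ht z)
  rw [ff_ores, ff_ores, hg] at h1
  exact h1

/-- A rational function which is a unit at all points of `V` is a unit on `V`. -/
theorem exists_of_unitAt {V : X.Opens} (hη : genericPoint X ∈ V) {u : X.functionField}
    (h : ∀ z ∈ V, UnitAt z u) : ∃ g : Γ(X, V), IsUnit g ∧ ff V hη g = u := by
  obtain ⟨g, hg⟩ := exists_of_regAt hη (fun z hz => unitAt_regAt (h z hz))
  obtain ⟨g', hg'⟩ := exists_of_regAt hη (fun z hz => unitAt_regAt (unitAt_inv (h z hz)))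
  refine ⟨g, IsUnit.of_mul_eq_one g' (ff_injective V hη ?_), hg⟩
  rw [map_mul, hg, hg', map_one, mul_inv_cancel₀ (unitAt_ne_zero (h _ hη))]

/-- Every invertible module has a Cartier cocycle. -/
theorem exists_hasCoc {L : X.Modules} (hL : PicF.IsInvertible L) : ∃ a, HasCoc L a := by
  rw [isInvertible_iff] at hL
  choose U e hx he using hL
  have hη : ∀ x, genericPoint X ∈ U x := fun x => gen_mem (hx x)
  choose g hgu hg using fun x y =>
    ((he y).res (inf_le_right : U x ⊓ U y ≤ U y)).exists_unit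
      ((he x).res (inf_le_left : U x ⊓ U y ≤ U x))
  refine ⟨fun x => ff (U x ⊓ U (genericPoint X)) ⟨hη x, hη _⟩ (g x (genericPoint X)),
    fun x => ((hgu x _).map _).ne_zero, U, hx, e, he, fun x y =>
      ⟨g x y, ⟨hη x, hη y⟩, hg x y, ?_⟩⟩
  have k1 : U x ⊓ U y ⊓ U (genericPoint X) ≤ U x ⊓ U (genericPoint X) :=
    le_inf (inf_le_left.trans inf_le_left) inf_le_right
  have k2 : U x ⊓ U y ⊓ U (genericPoint X) ≤ U x ⊓ U y := inf_le_left
  have k3 : U x ⊓ U y ⊓ U (genericPoint X) ≤ U y ⊓ U (genericPoint X) :=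
    le_inf (inf_le_left.trans inf_le_right) inf_le_right
  have h1 := congrArg (res L k1) (hg x (genericPoint X))
  have h2 := congrArg (res L k2) (hg x y)
  have h3 := congrArg (res L k3) (hg y (genericPoint X))
  simp only [res_smul, res_res] at h1 h2 h3
  have h4 : ores k1 (g x (genericPoint X)) = ores k2 (g x y) * ores k3 (g y (genericPoint X)) :=
    ((he _).res (inf_le_right : U x ⊓ U y ⊓ U (genericPoint X) ≤ U (genericPoint X))).ext (by
      rw [← h1, h2, h3, smul_smul])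
  have h5 := congrArg (ff (U x ⊓ U y ⊓ U (genericPoint X)) ⟨⟨hη x, hη y⟩, hη _⟩) h4
  rw [map_mul, ff_ores, ff_ores, ff_ores] at h5
  exact h5

omit [IsIntegral X] in
/-- In a cocycle, the transition functions are units. -/
theorem isUnit_of_gen {L : X.Modules} {U V : X.Opens} {e : Γ(L, U)} {e' : Γ(L, V)}
    (he : IsGen e) (he' : IsGen e') {g : Γ(X, U ⊓ V)}
    (h : res L inf_le_left e = g • res L inf_le_right e') : IsUnit g :=
  (he'.res (inf_le_right : U ⊓ V ≤ V)).isUnit_of_smul (by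
    rw [← h]
    exact he.res inf_le_left)

/-- Local relation between the values of a Cartier cocycle. -/
theorem hasCoc_loc {L : X.Modules} {a : X → X.functionField} (h : HasCoc L a) (x : X) :
    ∃ U : X.Opens, x ∈ U ∧ ∀ y ∈ U, UnitAt y (a x / a y) := by
  obtain ⟨h0, U, hU, e, he, h⟩ := h
  refine ⟨U x, hU x, fun y hy => ?_⟩
  obtain ⟨g, hη, hg, ha⟩ := h x y
  refine ⟨U x ⊓ U y, ⟨hy, hU y⟩, hη, g, isUnit_of_gen (he x) (he y) hg, ?_⟩
  rw [ha, mul_div_assoc, div_self (h0 y), mul_one]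

/-- A family of rational functions with the local relation of `hasCoc_loc` is a Cartier cocycle. -/
theorem exists_of_loc (a : X → X.functionField) (h0 : ∀ x, a x ≠ 0)
    (h : ∀ x, ∃ U : X.Opens, x ∈ U ∧ ∀ y ∈ U, UnitAt y (a x / a y)) :
    ∃ L : X.Modules, PicF.IsInvertible L ∧ HasCoc L a := by
  choose U hxU hU using h
  have hη : ∀ x, genericPoint X ∈ U x := fun x => gen_mem (hxU x)
  have h1 : ∀ x y, ∃ g : Γ(X, U x ⊓ U y), IsUnit g ∧ ff (U x ⊓ U y) ⟨hη x, hη y⟩ g = a x / a y := by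
    intro x y
    refine exists_of_unitAt _ fun z hz => ?_
    have h2 := unitAt_div (hU x z hz.1) (hU y z hz.2)
    rwa [div_div_div_cancel_right₀ (h0 z)] at h2
  choose g hgu hg using h1
  obtain ⟨L, e, he, hL⟩ := Groth.Agent.Picfga.LineCocycle.exists_of_cocycle (U := U) (g := g)
    (fun i => ff_injective (U i ⊓ U i) ⟨hη i, hη i⟩ (by rw [hg, map_one, div_self (h0 i)]))
    (fun i j k T hi hj hk => by
      have k0 : T ≤ U i ⊓ U j ⊓ U k := le_inf (le_inf hi hj) hk
      have k1 : U i ⊓ U j ⊓ U k ≤ U i ⊓ U k := le_inf (inf_le_left.trans inf_le_left) inf_le_right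
      have k2 : U i ⊓ U j ⊓ U k ≤ U i ⊓ U j := inf_le_left
      have k3 : U i ⊓ U j ⊓ U k ≤ U j ⊓ U k := le_inf (inf_le_left.trans inf_le_right) inf_le_right
      have h2 : ores k1 (g i k) = ores k2 (g i j) * ores k3 (g j k) := by
        refine ff_injective (U i ⊓ U j ⊓ U k) ⟨⟨hη i, hη j⟩, hη k⟩ ?_
        rw [map_mul, ff_ores, ff_ores, ff_ores, hg, hg, hg, div_mul_div_cancel₀ (h0 j)]
      have h3 := congrArg (ores k0) h2
      simpa only [map_mul, ores_ores] using h3)
  refine ⟨L, (isInvertible_iff L).mpr fun x => ⟨U x, e x, hxU x, he x⟩, h0, U, hxU, e, he,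
    fun x y => ⟨g x y, ⟨hη x, hη y⟩, hL x y, ?_⟩⟩
  rw [hg, div_mul_cancel₀ _ (h0 y)]

/-- The cocycle of a tensor product. -/
theorem hasCoc_tensor {L M : X.Modules} {a b : X → X.functionField} (h : HasCoc L a)
    (h' : HasCoc M b) : HasCoc (CohB1.tensorMod L M) (fun x => a x * b x) := by
  obtain ⟨h0, U, hxU, e, he, h⟩ := h
  obtain ⟨h0', U', hxU', e', he', h'⟩ := h'
  refine ⟨fun x => mul_ne_zero (h0 x) (h0' x), fun x => U x ⊓ U' x, fun x => ⟨hxU x, hxU' x⟩,
    fun x => tmul (res L inf_le_left (e x)) (res M inf_le_right (e' x)),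
    fun x => ((he x).res _).tmul ((he' x).res _), fun x y => ?_⟩
  obtain ⟨g, hη, hg, ha⟩ := h x y
  obtain ⟨g', hη', hg', ha'⟩ := h' x y
  have k : (U x ⊓ U' x) ⊓ (U y ⊓ U' y) ≤ U x ⊓ U y := inf_le_inf inf_le_left inf_le_left
  have k' : (U x ⊓ U' x) ⊓ (U y ⊓ U' y) ≤ U' x ⊓ U' y := inf_le_inf inf_le_right inf_le_right
  refine ⟨ores k g * ores k' g', ⟨⟨hη.1, hη'.1⟩, ⟨hη.2, hη'.2⟩⟩, ?_, ?_⟩
  · have h1 := congrArg (res L k) hg
    have h2 := congrArg (res M k') hg'
    simp only [res_smul, res_res] at h1 h2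
    simp only [res_tmul, res_res]
    rw [h1, h2, smul_tmul, tmul_smul, smul_smul]
  · change a x * b x = _ * (a y * b y)
    rw [map_mul, ff_ores, ff_ores, ha, ha']
    ring

/-- The cocycle of a tensor power. -/
theorem hasCoc_pow {L : X.Modules} {a : X → X.functionField} (h : HasCoc L a) (n : ℕ) :
    HasCoc (CohB1.tensorPow L n) (fun x => a x ^ n) := by
  obtain ⟨h0, U, hxU, e, he, h⟩ := h
  refine ⟨fun x => pow_ne_zero _ (h0 x), U, hxU, fun x => pow (e x) n, fun x => (he x).pow n,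
    fun x y => ?_⟩
  obtain ⟨g, hη, hg, ha⟩ := h x y
  refine ⟨g ^ n, hη, ?_, ?_⟩
  · rw [res_pow, res_pow, hg, smul_pow]
  · change a x ^ n = _ * a y ^ n
    rw [map_pow, ha, mul_pow]

/-- Changing a cocycle by local units. -/
theorem hasCoc_change {L : X.Modules} {a b : X → X.functionField} (h : HasCoc L a)
    (hab : ∀ x, UnitAt x (b x / a x)) : HasCoc L b := by
  obtain ⟨h0, U, hxU, e, he, h⟩ := h
  have hb0 : ∀ x, b x ≠ 0 := fun x hx => unitAt_ne_zero (hab x) (by rw [hx, zero_div])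
  choose W hxW hηW w hwu hw using hab
  refine ⟨hb0, fun x => U x ⊓ W x, fun x => ⟨hxU x, hxW x⟩,
    fun x => ores inf_le_right (w x) • res L inf_le_left (e x),
    fun x => ((he x).res _).unit_smul ((hwu x).map _), fun x y => ?_⟩
  obtain ⟨g, hη, hg, ha⟩ := h x y
  obtain ⟨w', hw'⟩ := (hwu y).exists_left_inv
  have k : (U x ⊓ W x) ⊓ (U y ⊓ W y) ≤ U x ⊓ U y := inf_le_inf inf_le_left inf_le_left
  have kx : (U x ⊓ W x) ⊓ (U y ⊓ W y) ≤ W x := inf_le_left.trans inf_le_right
  have ky : (U x ⊓ W x) ⊓ (U y ⊓ W y) ≤ W y := inf_le_right.trans inf_le_right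
  refine ⟨ores kx (w x) * ores k g * ores ky w', ⟨⟨hη.1, hηW x⟩, ⟨hη.2, hηW y⟩⟩, ?_, ?_⟩
  · have h1 := congrArg (res L k) hg
    have h2 := congrArg (ores ky) hw'
    simp only [res_smul, res_res] at h1
    rw [map_mul, map_one] at h2
    simp only [res_smul, res_res, ores_ores]
    rw [h1, smul_smul, smul_smul, mul_assoc (_ * _), h2, mul_one]
  · have h2 := congrArg (ff (W y) (hηW y)) hw'
    rw [map_mul, map_one, hw] at h2
    rw [map_mul, map_mul, ff_ores, ff_ores, ff_ores, hw]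
    have h3 : ff (W y) (hηW y) w' = a y / b y := by
      rw [eq_div_iff (hb0 y)]
      have h4 := congrArg (· * a y) h2
      simp only [one_mul] at h4
      rw [← h4, mul_assoc, div_mul_cancel₀ _ (h0 y)]
    have h5 : ff (U x ⊓ U y) hη g = a x / a y := by
      rw [eq_div_iff (h0 y), ha]
    change b x = b x / a x * ff (U x ⊓ U y) hη g * ff (W y) (hηW y) w' * b y
    rw [h3, h5]
    have := h0 x
    have := h0 y
    have := hb0 y
    field_simp

/-- Modules with equivalent cocycles are isomorphic. -/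
theorem hasCoc_iso {L M : X.Modules} {a b : X → X.functionField} (h : HasCoc L a)
    (h' : HasCoc M b) (c : X.functionField) (hc : c ≠ 0)
    (hab : ∀ x, UnitAt x (c * a x / b x)) : Nonempty (L ≅ M) := by
  obtain ⟨h0', U', hxU', e', he', h'⟩ := hasCoc_change h' hab
  obtain ⟨h0, U, hxU, e, he, h⟩ := h
  obtain ⟨φ, -⟩ := Groth.Agent.Ega2.IsoCocycle.exists_iso (M := L) (N := M)
    (U := fun x => U x ⊓ U' x) (e := fun x => res L inf_le_left (e x))
    (e' := fun x => res M inf_le_right (e' x))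
    (eq_top_iff.mpr fun x _ => Opens.mem_iSup.mpr ⟨x, ⟨hxU x, hxU' x⟩⟩)
    (fun x => (he x).res _) (fun x => (he' x).res _) (fun x y => by
      obtain ⟨g, hη, hg, ha⟩ := h x y
      obtain ⟨g', hη', hg', ha'⟩ := h' x y
      have k : (U x ⊓ U' x) ⊓ (U y ⊓ U' y) ≤ U x ⊓ U y := inf_le_inf inf_le_left inf_le_left
      have k' : (U x ⊓ U' x) ⊓ (U y ⊓ U' y) ≤ U' x ⊓ U' y := inf_le_inf inf_le_right inf_le_right
      have h1 := congrArg (res L k) hg
      have h2 := congrArg (res M k') hg'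
      simp only [res_smul, res_res] at h1 h2
      have h3 : ores k g = ores k' g' := by
        refine ff_injective ((U x ⊓ U' x) ⊓ (U y ⊓ U' y)) ⟨⟨hη.1, hη'.1⟩, ⟨hη.2, hη'.2⟩⟩ ?_
        rw [ff_ores, ff_ores]
        refine mul_right_cancel₀ (h0' y) ?_
        rw [← ha', mul_left_comm, ← ha]
      refine ⟨ores k g, ?_, ?_⟩
      · simp only [res_res]
        exact h1
      · simp only [res_res]
        rw [h3]
        exact h2)
  exact ⟨φ⟩

end Groth.Agent.Lefpen.H521.CartierCoc
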